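import Groth.Agent.Divis.StalkMod
import Groth.Agent.Ega3A.FiberRank
import Groth.Agent.Grpsch.FlatIdealFP

/-!
# Flat quasi-coherent modules on affine opens; ranks of stalks
-/

set_option autoImplicit false
universe u

open CategoryTheory CategoryTheory.Limits AlgebraicGeometry TopologicalSpace

namespace K582.FlatSections

open Groth.Agent.Divis.StalkMod

variable {X : Scheme.{u}} (M : X.Modules)

/-- Every prime of the sections over an affine open comes from a point. -/
theorem primeIdealOf_fromSpec {U : X.Opens} (hU : IsAffineOpen U) (p : PrimeSpectrum Γ(X, U))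
    (h : hU.fromSpec p ∈ U) : hU.primeIdealOf ⟨hU.fromSpec p, h⟩ = p := by
  have inj : Function.Injective hU.fromSpec := hU.fromSpec.isOpenEmbedding.injective
  apply inj
  exact hU.fromSpec_primeIdealOf ⟨hU.fromSpec p, h⟩

theorem fromSpec_mem {U : X.Opens} (hU : IsAffineOpen U) (p : PrimeSpectrum Γ(X, U)) :
    hU.fromSpec p ∈ U := by
  have h : hU.fromSpec p ∈ Set.range hU.fromSpec := ⟨p, rfl⟩
  rwa [hU.range_fromSpec] at h

theorem isFlatAt_of_flat_sections (hM : Coh.IsQCoh M) {U : X.Opens} (hU : IsAffineOpen U)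
    (h : Module.Flat Γ(X, U) Γ(M, U)) (x : X) (hx : x ∈ U) : FlatMod.IsFlatAt M x := by
  refine stalk_elim M hM hU x hx ?_
  intro _ _ _ _ l _ _ _
  exact Module.Flat.of_isLocalizedModule (X.presheaf.stalk x)
      (hU.primeIdealOf ⟨x, hx⟩).asIdeal.primeCompl l

theorem flat_sections_of_isFlatAt (hM : Coh.IsQCoh M) {U : X.Opens} (hU : IsAffineOpen U)
    (h : ∀ x ∈ U, FlatMod.IsFlatAt M x) : Module.Flat Γ(X, U) Γ(M, U) := by
  refine Module.flat_of_localized_maximal _ fun P hP => ?_
  have hx := fromSpec_mem hU ⟨P, hP.isPrime⟩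
  have h1 : Module.Flat (X.presheaf.stalk _) (M.presheaf.stalk _) := h _ hx
  have h2 := primeIdealOf_fromSpec hU ⟨P, hP.isPrime⟩ hx
  generalize hU.fromSpec ⟨P, hP.isPrime⟩ = x at hx h1 h2
  refine stalk_elim M hM hU x hx ?_
  intro i1 i2 i3 i4 l _ _ i5
  rw [h2] at i4 i5
  have h3 : Module.Flat Γ(X, U) (M.presheaf.stalk x) :=
    (Module.flat_iff_of_isLocalization (X.presheaf.stalk x) P.primeCompl (M.presheaf.stalk x)).mp h1
  exact Module.Flat.of_linearEquiv (IsLocalizedModule.iso P.primeCompl l)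

/-- The rank of the stalk of a module whose sections over an affine neighbourhood are finite and flat. -/
theorem finrank_stalk (hM : Coh.IsQCoh M) {U : X.Opens} (hU : IsAffineOpen U)
    [Module.Finite Γ(X, U) Γ(M, U)] [Module.Flat Γ(X, U) Γ(M, U)] (x : X) (hx : x ∈ U) :
    Module.finrank (X.presheaf.stalk x) (M.presheaf.stalk x) =
      Module.rankAtStalk (R := Γ(X, U)) Γ(M, U) (hU.primeIdealOf ⟨x, hx⟩) := by
  refine stalk_elim M hM hU x hx ?_
  intro i1 i2 i3 i4 l _ _ i5
  have h3 : Module.Finite (X.presheaf.stalk x) (M.presheaf.stalk x) :=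
    Module.Finite.of_isLocalizedModule (hU.primeIdealOf ⟨x, hx⟩).asIdeal.primeCompl l
  have h4 : Module.Flat (X.presheaf.stalk x) (M.presheaf.stalk x) :=
    Module.Flat.of_isLocalizedModule (X.presheaf.stalk x)
      (hU.primeIdealOf ⟨x, hx⟩).asIdeal.primeCompl l
  have h5 : Module.Free (X.presheaf.stalk x) (M.presheaf.stalk x) := Module.free_of_flat_of_isLocalRing
  have hb : IsBaseChange (X.presheaf.stalk x) l :=
    IsLocalizedModule.isBaseChange (hU.primeIdealOf ⟨x, hx⟩).asIdeal.primeCompl (X.presheaf.stalk x) l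
  have h6 := Module.rankAtStalk_isBaseChange hb (IsLocalRing.closedPoint (X.presheaf.stalk x))
  rw [Module.rankAtStalk_eq_finrank_of_free] at h6
  have h7 : PrimeSpectrum.comap (algebraMap Γ(X, U) (X.presheaf.stalk x))
      (IsLocalRing.closedPoint (X.presheaf.stalk x)) = hU.primeIdealOf ⟨x, hx⟩ := by
    ext1
    exact IsLocalization.AtPrime.under_maximalIdeal (X.presheaf.stalk x)
      (hU.primeIdealOf ⟨x, hx⟩).asIdeal
  rw [h7] at h6
  simpa using h6

end K582.FlatSections
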