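import Groth.Agent.FlatMod.K582.RankIdeal
import Groth.Agent.FlatMod.K582.FlatSections
import Groth.Agent.Ega2.BasSec
import Groth.Agent.Fdesc.PullbackSec
import Groth.Agent.FormalA.PullbackQC

/-!
# The locus where a quasi-coherent module of finite type is locally free of given rank
-/

set_option autoImplicit false
universe u

open CategoryTheory CategoryTheory.Limits AlgebraicGeometry TopologicalSpace TensorProduct

namespace K582.RankStrat

open K582.RankIdeal K582.FlatSections Groth.Agent.Grpsch.FlatIdeal Groth.Agent.Fdesc.PullbackSec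
open Groth.Agent.Divis.StalkMod

variable {X : Scheme.{u}} (M : X.Modules)

/-- The dimension of the fibre of `M` at `x`. -/
noncomputable def fib (x : X) : ℕ :=
  Module.finrank (IsLocalRing.ResidueField (X.presheaf.stalk x))
    (IsLocalRing.ResidueField (X.presheaf.stalk x) ⊗[X.presheaf.stalk x] M.presheaf.stalk x)

theorem fib_eq (hM : Coh.IsQCoh M) {U : X.Opens} (hU : IsAffineOpen U) (x : X) (hx : x ∈ U) :
    fib M x = fibRank Γ(X, U) Γ(M, U) (hU.primeIdealOf ⟨x, hx⟩) := by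
  refine stalk_elim M hM hU x hx ?_
  intro i1 i2 i3 i4 l _ _ i5
  have hb : IsBaseChange (X.presheaf.stalk x) l :=
    IsLocalizedModule.isBaseChange (hU.primeIdealOf ⟨x, hx⟩).asIdeal.primeCompl (X.presheaf.stalk x) l
  have e := AlgebraTensorModule.cancelBaseChange Γ(X, U) (X.presheaf.stalk x)
    (IsLocalRing.ResidueField (X.presheaf.stalk x)) (IsLocalRing.ResidueField (X.presheaf.stalk x)) Γ(M, U)
  have e2 := AlgebraTensorModule.congr (LinearEquiv.refl (IsLocalRing.ResidueField (X.presheaf.stalk x))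
    (IsLocalRing.ResidueField (X.presheaf.stalk x))) hb.equiv
  rw [fib, ← e2.finrank_eq, e.finrank_eq]
  refine finrank_of_field _ _ _ _ ?_
  rw [IsScalarTower.algebraMap_eq Γ(X, U) (X.presheaf.stalk x)
    (IsLocalRing.ResidueField (X.presheaf.stalk x)), ← RingHom.comap_ker]
  have h1 : RingHom.ker (algebraMap (X.presheaf.stalk x) (IsLocalRing.ResidueField (X.presheaf.stalk x))) =
    IsLocalRing.maximalIdeal _ := IsLocalRing.ker_residue
  rw [h1]
  exact (IsLocalization.AtPrime.under_maximalIdeal (X.presheaf.stalk x)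
      (hU.primeIdealOf ⟨x, hx⟩).asIdeal).symm

theorem fib_fromSpec (hM : Coh.IsQCoh M) {U : X.Opens} (hU : IsAffineOpen U) (p : PrimeSpectrum Γ(X, U)) :
    fib M (hU.fromSpec p) = fibRank Γ(X, U) Γ(M, U) p := by
  rw [fib_eq M hM hU _ (fromSpec_mem hU p), primeIdealOf_fromSpec]

theorem isOpen_fib_le (hM : Coh.IsQCoh M) (hft : CohB1.IsFT M) (n : ℕ) : IsOpen {x | fib M x ≤ n} := by
  have hfin : ∀ {U : X.Opens}, IsAffineOpen U → Module.Finite Γ(X, U) Γ(M, U) := fun hU =>
    Groth.Agent.CohqB.FiniteType2.finite_sections_of_isFT M hft hU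
  rw [isOpen_iff_forall_mem_open]
  intro x hx
  obtain ⟨U, hU, hxU⟩ := Groth.Agent.Divis.StalkMod.exists_affine x
  have := hfin hU
  have h5 := Groth.Agent.Ega3A.FiberRank.isOpen_fiberRank_le (R := Γ(X, U)) (M := Γ(M, U)) n
  refine ⟨hU.fromSpec '' {p | Groth.Agent.Ega3A.FiberRank.fiberRank (R := Γ(X, U)) Γ(M, U) p ≤ n}, ?_,
    hU.fromSpec.isOpenEmbedding.isOpenMap _ h5, ?_⟩
  · rintro _ ⟨p, hp, rfl⟩
    rw [Set.mem_ofPred_eq, fib_fromSpec M hM hU p]
    exact hp
  · obtain ⟨p, rfl⟩ : x ∈ Set.range hU.fromSpec := by rw [hU.range_fromSpec]; exact hxU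
    refine ⟨p, ?_, rfl⟩
    rw [Set.mem_ofPred_eq, fib_fromSpec M hM hU p] at hx
    exact hx

theorem fib_pullback {T : Scheme.{u}} (f : T ⟶ X) (hM : Coh.IsQCoh M) (t : T) :
    fib ((Scheme.Modules.pullback f).obj M) t = fib M (f t) := by
  have hM' : Coh.IsQCoh ((Scheme.Modules.pullback f).obj M) :=
    Groth.Agent.FormalA.PullbackQC.isQCoh_pullback f M hM
  obtain ⟨U, hU, hxU⟩ := Groth.Agent.Divis.StalkMod.exists_affine (f t)
  obtain ⟨V, hV, htV, hVU⟩ := exists_isAffineOpen_mem_and_subset (x := t) (U := f ⁻¹ᵁ U) hxU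
  have e : V ≤ f ⁻¹ᵁ U := hVU
  rw [fib_eq _ hM' hV t htV, fib_eq _ hM hU _ (e htV)]
  let := secAlg f e
  let := secModule f e ((Scheme.Modules.pullback f).obj M)
  have := isScalarTower_sec f e ((Scheme.Modules.pullback f).obj M)
  rw [fibRank_of_isBaseChange (pullSec f e M) (isBaseChange_pullSec f e hU hV M hM hM')]
  congr 1
  exact IsAffineOpen.comap_primeIdealOf_appLE U hU V hV e htV

theorem rankCond_sections {r : ℕ} (h : FlatMod.IsFinLocFreeOfRank r M) {U : X.Opens} (hU : IsAffineOpen U) :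
    RankCond r Γ(X, U) Γ(M, U) := by
  obtain ⟨h1, h2, h3⟩ := Groth.Agent.Ega2.BasSec.sections_of_isFinLocFreeOfRank h hU
  exact ⟨Module.Flat.projective_of_finitePresentation, h3⟩

theorem isFinLocFreeOfRank_of_cover {r : ℕ} (hM : Coh.IsQCoh M)
    (h : ∀ x : X, ∃ U : X.Opens, x ∈ U ∧ IsAffineOpen U ∧ Module.Finite Γ(X, U) Γ(M, U) ∧
      RankCond r Γ(X, U) Γ(M, U)) :
    FlatMod.IsFinLocFreeOfRank r M := by
  intro x
  obtain ⟨U, hx, hU, h1, h2, h3⟩ := h x
  have : M.IsQuasicoherent := hM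
  have : Module.FinitePresentation Γ(X, U) Γ(M, U) := Module.finitePresentation_of_projective _ _
  obtain ⟨V, hxV, -, ⟨e⟩⟩ := Groth.Agent.Ega3B.LocFree.exists_restrict_iso_freeMod M hU ⟨x, hx⟩
  rw [h3] at e
  exact ⟨V, hxV, ⟨e⟩⟩

theorem fib_eq_of_isFinLocFreeOfRank {r : ℕ} (hM : Coh.IsQCoh M) (h : FlatMod.IsFinLocFreeOfRank r M) (x : X) :
    fib M x = r := by
  obtain ⟨U, hU, hx⟩ := Groth.Agent.Divis.StalkMod.exists_affine x
  obtain ⟨h1, h2, h3⟩ := Groth.Agent.Ega2.BasSec.sections_of_isFinLocFreeOfRank h hU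
  rw [fib_eq M hM hU x hx, ← rankAtStalk_eq_fibRank, h3]

section ideal

variable {M} {r : ℕ} (hM : Coh.IsQCoh M) (hft : CohB1.IsFT M) (hr : ∀ x, fib M x ≤ r)

include hM hft in
theorem finite_sec {U : X.Opens} (hU : IsAffineOpen U) : Module.Finite Γ(X, U) Γ(M, U) :=
  Groth.Agent.CohqB.FiniteType2.finite_sections_of_isFT M hft hU

include hM hr in
theorem fibRank_le {U : X.Opens} (hU : IsAffineOpen U) (p : PrimeSpectrum Γ(X, U)) :
    fibRank Γ(X, U) Γ(M, U) p ≤ r := by
  rw [← fib_fromSpec M hM hU p]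
  exact hr _

/-- The ideal sheaf of the locus where `M` is locally free of rank `r`. -/
noncomputable def rankSheaf : X.IdealSheafData where
  ideal U := J Γ(X, U.1) Γ(M, U.1) r
  map_ideal_basicOpen U f := by
    have hfin := finite_sec hM hft U.2
    let := Groth.Agent.Fdesc.QCohStalk.resModule M (X.basicOpen_le f)
    let : Algebra Γ(X, U.1) Γ(X, X.basicOpen f) :=
      (X.presheaf.map (homOfLE (X.basicOpen_le f)).op).hom.toAlgebra
    have : IsScalarTower Γ(X, U.1) Γ(X, X.basicOpen f) Γ(M, X.basicOpen f) :=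
      IsScalarTower.of_algebraMap_smul fun _ _ => rfl
    have : IsLocalization.Away f Γ(X, X.basicOpen f) := U.2.isLocalization_basicOpen f
    have := Groth.Agent.Fdesc.QCohStalk.isLocalizedModule_res M U.2 hM f
    have hb : IsBaseChange Γ(X, X.basicOpen f)
        (Groth.Agent.Fdesc.QCohStalk.resₗ M (X.basicOpen_le f)) :=
      IsLocalizedModule.isBaseChange (.powers f) _ _
    exact J_map (B := Γ(X, X.basicOpen f)) (N := Γ(M, X.basicOpen f)) (fibRank_le hM hr U.2) _ hb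

theorem rankSheaf_le_ker_iff {T : Scheme.{u}} (f : T ⟶ X) :
    rankSheaf hM hft hr ≤ f.ker ↔ FlatMod.IsFinLocFreeOfRank r ((Scheme.Modules.pullback f).obj M) := by
  have hM' : Coh.IsQCoh ((Scheme.Modules.pullback f).obj M) :=
    Groth.Agent.FormalA.PullbackQC.isQCoh_pullback f M hM
  have hft' : CohB1.IsFT ((Scheme.Modules.pullback f).obj M) :=
    Groth.Agent.FormalA.PullbackQC.isFT_pullback f M hft
  have key : ∀ (U : X.Opens) (V : T.Opens) (hU : IsAffineOpen U) (_ : IsAffineOpen V) (e : V ≤ f ⁻¹ᵁ U),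
      RankCond r Γ(T, V) Γ((Scheme.Modules.pullback f).obj M, V) ↔
        J Γ(X, U) Γ(M, U) r ≤ RingHom.ker (f.appLE U V e).hom := by
    intro U V hU hV e
    have hfin := finite_sec hM hft hU
    let := secAlg f e
    let := secModule f e ((Scheme.Modules.pullback f).obj M)
    have := isScalarTower_sec f e ((Scheme.Modules.pullback f).obj M)
    exact J_spec_of_isBaseChange (fibRank_le hM hr hU) (pullSec f e M)
      (isBaseChange_pullSec f e hU hV M hM hM')
  rw [Scheme.Hom.ker, Scheme.IdealSheafData.le_ofIdeals_iff]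
  constructor
  · intro h
    refine isFinLocFreeOfRank_of_cover _ hM' fun t => ?_
    obtain ⟨U, hU, hxU⟩ := Groth.Agent.Divis.StalkMod.exists_affine (f t)
    obtain ⟨V, hV, htV, hVU⟩ := exists_isAffineOpen_mem_and_subset (x := t) (U := f ⁻¹ᵁ U) hxU
    have e : V ≤ f ⁻¹ᵁ U := hVU
    refine ⟨V, htV, hV, finite_sec hM' hft' hV, (key U V hU hV e).mpr ?_⟩
    intro a ha
    have h1 : (f.app U).hom a = 0 := h ⟨U, hU⟩ ha
    rw [RingHom.mem_ker, Scheme.Hom.appLE]
    change (T.presheaf.map (homOfLE e).op).hom ((f.app U).hom a) = 0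
    rw [h1, map_zero]
  · intro h U a ha
    change (f.app U.1).hom a = 0
    refine TopCat.Presheaf.section_ext T.sheaf (f ⁻¹ᵁ U.1) _ _ fun t ht => ?_
    obtain ⟨V, hV, htV, hVU⟩ := exists_isAffineOpen_mem_and_subset (x := t) (U := f ⁻¹ᵁ U.1) ht
    have e : V ≤ f ⁻¹ᵁ U.1 := hVU
    have h1 := (key U.1 V U.2 hV e).mp (rankCond_sections _ h hV) ha
    rw [RingHom.mem_ker, Scheme.Hom.appLE] at h1
    have h2 : (T.presheaf.map (homOfLE e).op).hom ((f.app U.1).hom a) = 0 := h1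
    have h3 := congrArg (T.presheaf.germ V t htV).hom h2
    rw [map_zero] at h3
    refine Eq.trans ?_ (h3.trans (map_zero _).symm)
    exact (TopCat.Presheaf.germ_res_apply T.presheaf (homOfLE e) t htV _).symm

end ideal

theorem IsFinLocFreeOfRank.of_iso {r : ℕ} {M N : X.Modules} (e : M ≅ N) (h : FlatMod.IsFinLocFreeOfRank r M) :
    FlatMod.IsFinLocFreeOfRank r N := by
  intro x
  obtain ⟨U, hx, ⟨a⟩⟩ := h x
  exact ⟨U, hx, ⟨(Scheme.Modules.restrictFunctor U.ι).mapIso e.symm ≪≫ a⟩⟩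

theorem exists_immersion {X : Scheme.{u}} (F : X.Modules) (hF : Coh.IsQCoh F) (hft : CohB1.IsFT F) (r : ℕ) :
    ∃ (Z : Scheme.{u}) (i : Z ⟶ X), IsImmersion i ∧ ∀ (T : Scheme.{u}) (f : T ⟶ X),
      (∃ g : T ⟶ Z, g ≫ i = f) ↔ FlatMod.IsFinLocFreeOfRank r ((Scheme.Modules.pullback f).obj F) := by
  let W : X.Opens := ⟨{x | fib F x ≤ r}, isOpen_fib_le F hF hft r⟩
  have hG : Coh.IsQCoh ((Scheme.Modules.pullback W.ι).obj F) :=
    Groth.Agent.FormalA.PullbackQC.isQCoh_pullback _ F hF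
  have hGft : CohB1.IsFT ((Scheme.Modules.pullback W.ι).obj F) :=
    Groth.Agent.FormalA.PullbackQC.isFT_pullback _ F hft
  have hr : ∀ x, fib ((Scheme.Modules.pullback W.ι).obj F) x ≤ r := fun x => by
    rw [fib_pullback _ _ hF]; exact x.2
  let I := rankSheaf hG hGft hr
  refine ⟨I.subscheme, I.subschemeι ≫ W.ι, inferInstance, fun T f => ⟨?_, ?_⟩⟩
  · rintro ⟨g, rfl⟩
    have h1 : I ≤ (g ≫ I.subschemeι).ker := by
      conv_lhs => rw [← I.ker_subschemeι]
      exact Scheme.Hom.le_ker_comp _ _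
    have h2 := (rankSheaf_le_ker_iff hG hGft hr _).mp h1
    refine IsFinLocFreeOfRank.of_iso ?_ h2
    exact (Scheme.Modules.pullbackComp (g ≫ I.subschemeι) W.ι).app F ≪≫
      (Scheme.Modules.pullbackCongr (Category.assoc _ _ _)).app F
  · intro h
    have hfW : Set.range f ⊆ Set.range W.ι := by
      rintro _ ⟨t, rfl⟩
      have h1 : f t ∈ W := by
        change fib F (f t) ≤ r
        rw [← fib_pullback _ _ hF]
        exact (fib_eq_of_isFinLocFreeOfRank _ (Groth.Agent.FormalA.PullbackQC.isQCoh_pullback _ F hF) h t).le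
      exact ⟨⟨f t, h1⟩, rfl⟩
    let f' := IsOpenImmersion.lift W.ι f hfW
    have hf' : f' ≫ W.ι = f := IsOpenImmersion.lift_fac _ _ _
    have h2 : I ≤ f'.ker := by
      refine (rankSheaf_le_ker_iff hG hGft hr f').mpr (IsFinLocFreeOfRank.of_iso ?_ h)
      exact ((Scheme.Modules.pullbackComp f' W.ι).app F ≪≫
        (Scheme.Modules.pullbackCongr hf').app F).symm
    refine ⟨IsClosedImmersion.lift I.subschemeι f' (by rw [I.ker_subschemeι]; exact h2), ?_⟩
    rw [IsClosedImmersion.lift_fac_assoc, hf']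

end K582.RankStrat
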