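import Groth.Agent.Sga3C.FlatClosed
import Mathlib.AlgebraicGeometry.Morphisms.UniversallyOpen

/-!
# Flat closed subschemes
-/

set_option autoImplicit false
universe u

open CategoryTheory CategoryTheory.Limits AlgebraicGeometry TopologicalSpace

namespace K582.FlatClosed

open Groth.Agent.Sga3C.FlatClosed

variable {X : Scheme.{u}} (I : X.IdealSheafData)

theorem pure_ideal [Flat I.subschemeι] (U : X.affineOpens) : (I.ideal U).Pure := by
  have h1 : Flat (I.subschemeCover.f U ≫ I.subschemeι) := inferInstance
  rw [Scheme.IdealSheafData.subschemeCover_map_subschemeι, Scheme.IdealSheafData.glueDataObjι_ι] at h1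
  have : Flat (Spec.map (CommRingCat.ofHom (Ideal.Quotient.mk (I.ideal U)))) :=
    MorphismProperty.of_postcomp (W' := @IsOpenImmersion) @Flat _ U.2.fromSpec
      (inferInstanceAs (IsOpenImmersion _)) h1
  rw [Flat.SpecMap_iff] at this
  exact this

theorem stableUnderGeneralization_support [Flat I.subschemeι] :
    StableUnderGeneralization (I.support : Set X) := by
  rw [← Scheme.IdealSheafData.range_subschemeι]
  exact (Flat.generalizingMap I.subschemeι).stableUnderGeneralization_range

theorem eq_flatIdeal [Flat I.subschemeι] :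
    I = flatIdeal I.support.isClosed (stableUnderGeneralization_support I) := by
  refine Scheme.IdealSheafData.ext (funext fun U => ?_)
  have h1 := pure_ideal I U
  have h2 := pure_flatIdeal I.support.isClosed (stableUnderGeneralization_support I) U
  rw [← Ideal.zeroLocus_inj_of_pure, zeroLocus_flatIdeal]
  ext y
  have hy : U.2.fromSpec y ∈ U.1 := by
    have h : U.2.fromSpec y ∈ Set.range U.2.fromSpec := ⟨y, rfl⟩
    rwa [U.2.range_fromSpec] at h
  have h3 := Scheme.IdealSheafData.mem_support_iff_of_mem (I := I) hy
  change _ ↔ U.2.fromSpec y ∈ I.support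
  rw [h3]
  have h4 := (show IsAffineOpen U.1 from U.2).fromSpec_preimage_zeroLocus (I.ideal U : Set Γ(X, U.1))
  exact (Set.ext_iff.mp h4 y).symm

theorem le_ker [Flat I.subschemeι] {T : Scheme.{u}} (h : T ⟶ X) (hT : Set.range h ⊆ I.support) :
    I ≤ h.ker := by
  rw [eq_flatIdeal I]
  exact flatIdeal_le_ker _ _ h hT

theorem bijOn_support (X : Scheme.{u}) :
    Set.BijOn (fun I : X.IdealSheafData => I.support) {I : X.IdealSheafData | Flat I.subschemeι}
        {Z : TopologicalSpace.Closeds ↑X | StableUnderGeneralization (Z : Set ↑X)} := by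
  refine ⟨fun I (hI : Flat I.subschemeι) => stableUnderGeneralization_support I, ?_, ?_⟩
  · intro I (hI : Flat I.subschemeι) J (hJ : Flat J.subschemeι) (hIJ : I.support = J.support)
    have hI' := le_ker I J.subschemeι (by rw [Scheme.IdealSheafData.range_subschemeι, hIJ])
    have hJ' := le_ker J I.subschemeι (by rw [Scheme.IdealSheafData.range_subschemeι, hIJ])
    rw [Scheme.IdealSheafData.ker_subschemeι] at hI' hJ'
    exact le_antisymm hI' hJ'
  · intro Z (hZ : StableUnderGeneralization (Z : Set ↑X))
    exact ⟨flatIdeal Z.isClosed hZ, flat_subschemeι_flatIdeal Z.isClosed hZ, rfl⟩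

end K582.FlatClosed
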