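import Groth.Agent.FlatMod.K582.FlatSections
import Groth.Agent.FlatMod.K582.FlatClosed
import Groth.Agent.Fdesc.StructMod
import Groth.Agent.Desc.FinLocFreeSections
import Groth.Agent.Ega1.QcqsPush
import Groth.Prelude.Def_CohB1
import Groth.Agent.QCohSub.K582.Support

/-!
# Finite type flat modules and closed subsets stable under generization
-/

set_option autoImplicit false
universe u

open CategoryTheory CategoryTheory.Limits AlgebraicGeometry TopologicalSpace

namespace K582.FlatFT

open K582.FlatSections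

section quot

variable {X : Scheme.{u}} (I : X.IdealSheafData)

/-- The structure sheaf of a closed subscheme as a module on the ambient scheme. -/
noncomputable abbrev O : X.Modules :=
  (Scheme.Modules.pushforward I.subschemeι).obj (Coh.structureModule I.subscheme)

noncomputable def secMap (U : X.Opens) : Γ(X, U) →ₗ[Γ(X, U)] Γ(O I, U) where
  toFun r := (I.subschemeι.app U).hom r
  map_add' := (I.subschemeι.app U).hom.map_add
  map_smul' r s := (I.subschemeι.app U).hom.map_mul r s

theorem secMap_surjective (U : X.affineOpens) : Function.Surjective (secMap I U.1) :=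
  I.subschemeι_app_surjective U

theorem ker_secMap (U : X.affineOpens) : LinearMap.ker (secMap I U.1) = I.ideal U := by
  rw [← I.ker_subschemeι_app U]
  rfl

noncomputable def secEquiv (U : X.affineOpens) : (Γ(X, U.1) ⧸ I.ideal U) ≃ₗ[Γ(X, U.1)] Γ(O I, U.1) :=
  (Submodule.quotEquivOfEq _ _ (ker_secMap I U).symm).trans
    ((secMap I U.1).quotKerEquivOfSurjective (secMap_surjective I U))

theorem isQCoh_O : Coh.IsQCoh (O I) :=
  Groth.Agent.Ega1.QcqsPush.isQCoh_pushforward _ _ (Groth.Agent.Fdesc.StructMod.isQCoh_structureModule _)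

theorem isFT_O : CohB1.IsFT (O I) := by
  have := isQCoh_O I
  refine Groth.Agent.CohqB.FiniteType2.isFT_of_finite_sections (O I) fun x => ?_
  obtain ⟨U, hU, hx⟩ := Groth.Agent.Divis.StalkMod.exists_affine x
  exact ⟨U, hx, hU, Module.Finite.equiv (secEquiv I ⟨U, hU⟩)⟩

theorem isFlat_O (h : ∀ U, (I.ideal U).Pure) : FlatMod.IsFlat (O I) := by
  intro x
  obtain ⟨U, hU, hx⟩ := Groth.Agent.Divis.StalkMod.exists_affine x
  have := h ⟨U, hU⟩
  exact isFlatAt_of_flat_sections _ (isQCoh_O I) hU (Module.Flat.of_linearEquiv (secEquiv I ⟨U, hU⟩).symm) x hx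

/-- The zero locus of an ideal with finite projective quotient is open. -/
theorem isOpen_zeroLocus {A : Type u} [CommRing A] (J : Ideal A) [Module.Finite A (A ⧸ J)]
    [Module.Flat A (A ⧸ J)] [Module.FinitePresentation A (A ⧸ J)] :
    IsOpen (PrimeSpectrum.zeroLocus (J : Set A)) := by
  have h1 := Module.isLocallyConstant_rankAtStalk (R := A) (M := A ⧸ J)
  have h2 : PrimeSpectrum.zeroLocus (J : Set A) = (Module.rankAtStalk (R := A) (A ⧸ J)) ⁻¹' {n | 0 < n} := by
    ext p
    rw [Set.mem_preimage, Set.mem_ofPred_eq, Module.rankAtStalk_pos_iff_mem_support,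
      Module.mem_support_iff_of_finite, Ideal.annihilator_quotient]
    rfl
  rw [h2]
  exact h1 _

end quot

section main

variable {X : Scheme.{u}}

theorem isOpen_of_finLocFree
    (H : ∀ F : X.Modules, Coh.IsQCoh F → CohB1.IsFT F → FlatMod.IsFlat F → FlatMod.IsFinLocFree F)
    (Z : Set X) (hZ : IsClosed Z) (hg : StableUnderGeneralization Z) : IsOpen Z := by
  let I := Groth.Agent.Sga3C.FlatClosed.flatIdeal hZ hg
  have hI := H (O I) (isQCoh_O I) (isFT_O I)
    (isFlat_O I fun U => Groth.Agent.Sga3C.FlatClosed.pure_flatIdeal hZ hg U)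
  rw [isOpen_iff_forall_mem_open]
  intro x hx
  obtain ⟨U, hU, hxU⟩ := Groth.Agent.Divis.StalkMod.exists_affine x
  obtain ⟨h1, h2⟩ := (Groth.Agent.Desc.FinLocFreeSections.isFinLocFree_iff_of_cover (isQCoh_O I)
    (fun _ => True) (fun x => by
      obtain ⟨U, hU, hx⟩ := Groth.Agent.Divis.StalkMod.exists_affine x
      exact ⟨U, trivial, hU, hx⟩)).mp hI U trivial hU
  have h3 : Module.FinitePresentation Γ(X, U) (Γ(X, U) ⧸ I.ideal ⟨U, hU⟩) :=
    Module.FinitePresentation.of_equiv (secEquiv I ⟨U, hU⟩).symm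
  have h4 : Module.Flat Γ(X, U) (Γ(X, U) ⧸ I.ideal ⟨U, hU⟩) :=
    Groth.Agent.Sga3C.FlatClosed.pure_flatIdeal hZ hg ⟨U, hU⟩
  have h5 := isOpen_zeroLocus (I.ideal ⟨U, hU⟩)
  have h6 : PrimeSpectrum.zeroLocus (I.ideal ⟨U, hU⟩ : Set Γ(X, U)) = hU.fromSpec ⁻¹' Z :=
    Groth.Agent.Sga3C.FlatClosed.zeroLocus_flatIdeal hZ hg ⟨U, hU⟩
  rw [h6] at h5
  refine ⟨hU.fromSpec '' (hU.fromSpec ⁻¹' Z), Set.image_preimage_subset _ _,
    hU.fromSpec.isOpenEmbedding.isOpenMap _ h5, ?_⟩
  obtain ⟨y, rfl⟩ : x ∈ Set.range hU.fromSpec := by rw [hU.range_fromSpec]; exact hxU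
  exact ⟨y, hx, rfl⟩

theorem isFinLocFree_of_isOpen (H : ∀ Z : Set X, IsClosed Z → StableUnderGeneralization Z → IsOpen Z)
    (F : X.Modules) (hq : Coh.IsQCoh F) (hft : CohB1.IsFT F) (hF : FlatMod.IsFlat F) :
    FlatMod.IsFinLocFree F := by
  have hfin : ∀ {U : X.Opens}, IsAffineOpen U → Module.Finite Γ(X, U) Γ(F, U) := fun hU =>
    Groth.Agent.CohqB.FiniteType2.finite_sections_of_isFT F hft hU
  have hflat : ∀ {U : X.Opens}, IsAffineOpen U → Module.Flat Γ(X, U) Γ(F, U) := fun hU =>
    flat_sections_of_isFlatAt F hq hU fun x _ => hF x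
  let r : X → ℕ := fun x => Module.finrank (X.presheaf.stalk x) (F.presheaf.stalk x)
  have hr : ∀ {U : X.Opens} (hU : IsAffineOpen U) (p : PrimeSpectrum Γ(X, U)),
      r (hU.fromSpec p) = Module.rankAtStalk (R := Γ(X, U)) Γ(F, U) p := by
    intro U hU p
    have := hfin hU
    have := hflat hU
    have h := finrank_stalk F hq hU _ (fromSpec_mem hU p)
    rw [primeIdealOf_fromSpec hU p] at h
    exact h
  have h1 : ∀ n, IsOpen {x | r x ≤ n} := by
    intro n
    rw [isOpen_iff_forall_mem_open]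
    intro x hx
    obtain ⟨U, hU, hxU⟩ := Groth.Agent.Divis.StalkMod.exists_affine x
    have := hfin hU
    have := hflat hU
    have h5 := Groth.Agent.Ega3A.FiberRank.isOpen_fiberRank_le (R := Γ(X, U)) (M := Γ(F, U)) n
    refine ⟨hU.fromSpec '' {p | Groth.Agent.Ega3A.FiberRank.fiberRank (R := Γ(X, U)) Γ(F, U) p ≤ n}, ?_,
      hU.fromSpec.isOpenEmbedding.isOpenMap _ h5, ?_⟩
    · rintro _ ⟨p, hp, rfl⟩
      rw [Set.mem_ofPred_eq, hr hU p, ← Groth.Agent.Ega3A.FiberRank.fiberRank_eq_rankAtStalk]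
      exact hp
    · obtain ⟨p, rfl⟩ : x ∈ Set.range hU.fromSpec := by rw [hU.range_fromSpec]; exact hxU
      refine ⟨p, ?_, rfl⟩
      rw [Set.mem_ofPred_eq, hr hU p, ← Groth.Agent.Ega3A.FiberRank.fiberRank_eq_rankAtStalk] at hx
      exact hx
  have h2 : ∀ n, IsOpen {x | n < r x} := by
    intro n
    refine H _ ?_ ?_
    · have : {x | n < r x} = {x | r x ≤ n}ᶜ := by ext x; simp
      rw [this]
      exact (h1 n).isClosed_compl
    · intro y x hxy hy
      obtain ⟨U, hU, hyU⟩ := Groth.Agent.Divis.StalkMod.exists_affine y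
      have := hfin hU
      have := hflat hU
      have hxU : x ∈ U := hxy.mem_open U.isOpen hyU
      change n < r x
      have hy' : n < r y := hy
      have e1 : r x = _ := finrank_stalk F hq hU x hxU
      have e2 : r y = _ := finrank_stalk F hq hU y hyU
      rw [e2] at hy'
      rw [e1, Module.rankAtStalk_eq_of_le_of_finite_of_flat (M := Γ(F, U))
        (K582.Support.primeIdealOf_le hU hxy hxU hyU)]
      exact hy'
  have h3 : IsLocallyConstant r := by
    rw [IsLocallyConstant.iff_isOpen_fiber]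
    intro n
    rcases n with _ | n
    · have : r ⁻¹' {0} = {x | r x ≤ 0} := by ext x; simp
      rw [this]
      exact h1 0
    · have : r ⁻¹' {n + 1} = {x | r x ≤ n + 1} ∩ {x | n < r x} := by
        ext x
        simp only [Set.mem_preimage, Set.mem_singleton_iff, Set.mem_inter_iff, Set.mem_ofPred_eq]
        omega
      rw [this]
      exact (h1 _).inter (h2 _)
  rw [Groth.Agent.Desc.FinLocFreeSections.isFinLocFree_iff_of_cover hq
    (fun _ => True) (fun x => by
      obtain ⟨U, hU, hx⟩ := Groth.Agent.Divis.StalkMod.exists_affine x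
      exact ⟨U, trivial, hU, hx⟩)]
  intro U _ hU
  have := hfin hU
  have := hflat hU
  refine ⟨?_, hflat hU⟩
  refine Groth.Agent.Grpsch.FlatIdeal.finitePresentation_of_flat ?_
  have h4 : Groth.Agent.Grpsch.FlatIdeal.fibRank Γ(X, U) Γ(F, U) = r ∘ hU.fromSpec := by
    funext p
    rw [← Groth.Agent.Grpsch.FlatIdeal.rankAtStalk_eq_fibRank, Function.comp_apply, hr hU p]
  rw [h4]
  exact h3.comp_continuous hU.fromSpec.continuous

end main

end K582.FlatFT
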