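import Groth.Agent.FlatA.GenericFree2
import Groth.Agent.Flat2C.FlatAtCriterion
import Mathlib.RingTheory.Filtration
import Mathlib.RingTheory.Localization.BaseChange
import Mathlib.RingTheory.Flat.Localization
import Mathlib.RingTheory.LocalRing.Module

/-!
# Generic flatness along a closed subscheme of finite type (algebra)
-/

set_option autoImplicit false
universe u

open TensorProduct

namespace K582.GenFlatAlong

section abs

variable {A : Type u} [CommRing A] [IsDomain A]

/-- Generic flatness of the reduction modulo `I` of retracts of a finite module over a finite type `B`-algebra, where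
`B ⧸ I` is of finite type over the domain `A`. -/
theorem exists_flat_of_retracts {B : Type u} [CommRing B] [Algebra A B] (I : Ideal B)
    [Algebra.FiniteType A (B ⧸ I)]
    (R : Type u) [CommRing R] [Algebra B R] [Algebra.FiniteType B R]
    (N : Type u) [AddCommGroup N] [Module R N] [Module B N] [IsScalarTower B R N] [Module.Finite R N] :
    ∃ f : A, f ≠ 0 ∧ ∀ (X : Type u) [AddCommGroup X] [Module B X] [Module A X] [IsScalarTower A B X]
      (i : X →ₗ[B] N) (r : N →ₗ[B] X) (_ : ∀ x, r (i x) = x),
      Module.Flat A (Localization.Away f ⊗[A] (X ⧸ (I • (⊤ : Submodule B X)))) := by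
  set J := I.map (algebraMap B R) with hJ
  let : Algebra A (R ⧸ J) := ((algebraMap (B ⧸ I) (R ⧸ J)).comp (algebraMap A (B ⧸ I))).toAlgebra
  have : IsScalarTower A (B ⧸ I) (R ⧸ J) := IsScalarTower.of_algebraMap_eq fun _ => rfl
  have h1 : Algebra.FiniteType B (R ⧸ J) := inferInstance
  have h2 : Algebra.FiniteType (B ⧸ I) (R ⧸ J) :=
    Algebra.FiniteType.of_restrictScalars_finiteType B (B ⧸ I) (R ⧸ J)
  have h3 : Algebra.FiniteType A (R ⧸ J) := Algebra.FiniteType.trans (S := B ⧸ I) inferInstance h2
  let : Module A (N ⧸ (J • (⊤ : Submodule R N))) := Module.compHom _ (algebraMap A (R ⧸ J))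
  have : IsScalarTower A (R ⧸ J) (N ⧸ (J • (⊤ : Submodule R N))) :=
    IsScalarTower.of_algebraMap_smul fun _ _ => rfl
  have : Module.Finite R (N ⧸ (J • (⊤ : Submodule R N))) := inferInstance
  have : Module.Finite (R ⧸ J) (N ⧸ (J • (⊤ : Submodule R N))) :=
    Module.Finite.of_restrictScalars_finite R (R ⧸ J) _
  obtain ⟨f, hf, hfree⟩ := Groth.Agent.FlatA.GenericFree.genFree_of_finiteType.{u, u, u} (R := A) (R ⧸ J)
    (N ⧸ (J • (⊤ : Submodule R N)))
  have hfree := hfree.free_tensor (Localization.Away f)
  refine ⟨f, hf, ?_⟩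
  intro X _ _ _ _ i r hir
  have hsmul : ∀ (a : A) (n : N), a • (Submodule.Quotient.mk n : N ⧸ (J • (⊤ : Submodule R N))) =
      Submodule.Quotient.mk ((algebraMap A B a) • n) := by
    intro a n
    change (algebraMap A (R ⧸ J) a) • (Submodule.Quotient.mk n : N ⧸ (J • (⊤ : Submodule R N))) = _
    rw [← algebraMap_smul R (algebraMap A B a) n]
    rfl
  have hJN : ∀ {n : N}, n ∈ J • (⊤ : Submodule R N) → r n ∈ I • (⊤ : Submodule B X) := by
    have key : ∀ c ∈ J, ∀ n : N, r (c • n) ∈ I • (⊤ : Submodule B X) := by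
      intro c hc
      rw [hJ, Ideal.map] at hc
      induction hc using Submodule.span_induction with
      | mem x hx =>
        obtain ⟨b, hb, rfl⟩ := hx
        intro n
        rw [algebraMap_smul, map_smul]
        exact Submodule.smul_mem_smul hb trivial
      | zero => intro n; rw [zero_smul, map_zero]; exact zero_mem _
      | add x y _ _ hx hy => intro n; rw [add_smul, map_add]; exact add_mem (hx n) (hy n)
      | smul s x _ hx => intro n; rw [smul_eq_mul, mul_comm, mul_smul]; exact hx _
    intro n hn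
    induction hn using Submodule.smul_induction_on' with
    | smul c hc n _ => exact key c hc n
    | add x _ y _ hx hy => rw [map_add]; exact add_mem hx hy
  have hIX : ∀ {x : X}, x ∈ I • (⊤ : Submodule B X) → i x ∈ J • (⊤ : Submodule R N) := by
    intro x hx
    induction hx using Submodule.smul_induction_on' with
    | smul b hb x _ =>
      rw [map_smul, ← algebraMap_smul R b]
      exact Submodule.smul_mem_smul (Ideal.mem_map_of_mem _ hb) trivial
    | add x _ y _ hx hy => rw [map_add]; exact add_mem hx hy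
  let q : N →+ (N ⧸ (J • (⊤ : Submodule R N))) := (Submodule.mkQ (J • (⊤ : Submodule R N))).toAddMonoidHom
  let i' : (X ⧸ (I • (⊤ : Submodule B X))) →ₗ[A] (N ⧸ (J • (⊤ : Submodule R N))) :=
    { toFun := (QuotientAddGroup.map (I • (⊤ : Submodule B X)).toAddSubgroup
        (J • (⊤ : Submodule R N)).toAddSubgroup i.toAddMonoidHom (fun x hx => hIX hx))
      map_add' := map_add _
      map_smul' := by
        intro a x
        obtain ⟨x, rfl⟩ := Submodule.Quotient.mk_surjective _ x
        change (Submodule.Quotient.mk (i (a • x)) : N ⧸ (J • (⊤ : Submodule R N))) =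
          a • (Submodule.Quotient.mk (i x) : N ⧸ (J • (⊤ : Submodule R N)))
        rw [hsmul, ← algebraMap_smul B a x, map_smul] }
  let r' : (N ⧸ (J • (⊤ : Submodule R N))) →ₗ[A] (X ⧸ (I • (⊤ : Submodule B X))) :=
    { toFun := (QuotientAddGroup.map (J • (⊤ : Submodule R N)).toAddSubgroup
        (I • (⊤ : Submodule B X)).toAddSubgroup r.toAddMonoidHom (fun x hx => hJN hx))
      map_add' := map_add _
      map_smul' := by
        intro a n
        obtain ⟨n, rfl⟩ := Submodule.Quotient.mk_surjective _ n
        rw [hsmul]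
        change (Submodule.Quotient.mk (r (algebraMap A B a • n)) : X ⧸ (I • (⊤ : Submodule B X))) =
          a • (Submodule.Quotient.mk (r n) : X ⧸ (I • (⊤ : Submodule B X)))
        rw [map_smul, ← algebraMap_smul B a (Submodule.Quotient.mk (r n) : X ⧸ (I • (⊤ : Submodule B X)))]
        rfl }
  have hir' : r' ∘ₗ i' = LinearMap.id := by
    apply LinearMap.ext
    intro x
    obtain ⟨x, rfl⟩ := Submodule.Quotient.mk_surjective _ x
    change Submodule.Quotient.mk (r (i x)) = _
    rw [hir]
    rfl
  have : Module.Flat (Localization.Away f)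
      (Localization.Away f ⊗[A] (N ⧸ (J • (⊤ : Submodule R N)))) := Module.Flat.of_free
  have : Module.Flat A (Localization.Away f ⊗[A] (N ⧸ (J • (⊤ : Submodule R N)))) := by
    rw [← Module.flat_iff_of_isLocalization (R := A) (S := Localization.Away f)
      (p := Submonoid.powers f)]
    infer_instance
  refine Module.Flat.of_retract (LinearMap.lTensor _ i') (LinearMap.lTensor _ r') ?_
  rw [← LinearMap.lTensor_comp, hir', LinearMap.lTensor_id]

end abs

section rees

variable {A : Type u} [CommRing A] (I : Ideal A) (M : Type u) [AddCommGroup M] [Module A M]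

/-- the Rees module -/
noncomputable abbrev RM : Submodule (reesAlgebra I) (PolynomialModule A M) :=
  (I.stableFiltration (⊤ : Submodule A M)).submodule

theorem finite_RM [IsNoetherianRing A] [Module.Finite A M] :
    Module.Finite (reesAlgebra I) (RM I M) := by
  rw [Module.Finite.iff_fg]
  rw [Ideal.Filtration.submodule_fg_iff_stable]
  · exact Ideal.stableFiltration_stable I ⊤
  · intro i
    exact IsNoetherian.noetherian _

/-- inclusion of a graded piece -/
noncomputable def incl (n : ℕ) : ↥(I ^ n • (⊤ : Submodule A M)) →ₗ[A] RM I M where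
  toFun m := ⟨PolynomialModule.single A n (m : M), by
    intro i
    rw [PolynomialModule.coeff_single, Finsupp.single_apply]
    split_ifs with h
    · subst h; exact m.2
    · exact Submodule.zero_mem _⟩
  map_add' x y := by
    ext1
    simp
  map_smul' r x := by
    apply Subtype.ext
    exact PolynomialModule.single_smul n r (x : M)

/-- projection to a graded piece -/
noncomputable def proj (n : ℕ) : RM I M →ₗ[A] ↥(I ^ n • (⊤ : Submodule A M)) where
  toFun m := ⟨(m : PolynomialModule A M).coeff n, m.2 n⟩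
  map_add' x y := by
    ext1
    simp
  map_smul' r x := by
    ext1
    rfl

theorem proj_incl (n : ℕ) (x) : proj I M n (incl I M n x) = x := by
  apply Subtype.ext
  simp [proj, incl]

end rees

section main

variable {A B : Type u} [CommRing A] [CommRing B] [Algebra A B] (I : Ideal B)
  {M : Type u} [AddCommGroup M] [Module B M] [Module A M] [IsScalarTower A B M]

/-- Elements of `M ⊗ 𝔞` dying in `M` are, up to powers of `f`, in the image of `I ^ n M ⊗ 𝔞`. -/
theorem exists_mem_image (f : A)
    (h : ∀ n : ℕ, Module.Flat A (Localization.Away f ⊗[A]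
      (↥(I ^ n • (⊤ : Submodule B M)) ⧸ (I • (⊤ : Submodule B ↥(I ^ n • (⊤ : Submodule B M)))))))
    (𝔞 : Ideal A) (x : M ⊗[A] 𝔞) (hx : 𝔞.subtype.lTensor M x = 0) (n : ℕ) :
    ∃ (k : ℕ) (y : ↥(I ^ n • (⊤ : Submodule B M)) ⊗[A] 𝔞),
      ((I ^ n • (⊤ : Submodule B M)).subtype.restrictScalars A).rTensor 𝔞 y = f ^ k • x := by
  induction n with
  | zero =>
    have htop : ∀ m : M, m ∈ (I ^ 0 • (⊤ : Submodule B M)) := fun m => by
      rw [pow_zero, Ideal.one_eq_top, Submodule.top_smul]; trivial
    let s : M →ₗ[A] ↥(I ^ 0 • (⊤ : Submodule B M)) :=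
      { toFun := fun m => ⟨m, htop m⟩
        map_add' := fun _ _ => rfl
        map_smul' := fun _ _ => rfl }
    refine ⟨0, s.rTensor 𝔞 x, ?_⟩
    have h0 : f ^ 0 • x = x := by rw [pow_zero f, one_smul]
    rw [← LinearMap.comp_apply, ← LinearMap.rTensor_comp, h0]
    exact LinearMap.congr_fun (LinearMap.rTensor_id 𝔞 M) x
  | succ n ih =>
    have hfl := h n
    set K := (I ^ n • (⊤ : Submodule B M)) with hK
    obtain ⟨k, y, hy⟩ := ih
    -- `y` dies in `K`
    have hy0 : 𝔞.subtype.lTensor K y = 0 := by
      have h1 : ((K.subtype.restrictScalars A).rTensor A) (𝔞.subtype.lTensor K y) = 0 := by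
        rw [← LinearMap.comp_apply, LinearMap.rTensor_comp_lTensor, ← LinearMap.lTensor_comp_rTensor,
          LinearMap.comp_apply, hy, map_smul, hx, smul_zero]
      have hinj : Function.Injective ((K.subtype.restrictScalars A).rTensor A) :=
        Module.Flat.rTensor_preserves_injective_linearMap _ Subtype.val_injective
      exact hinj (h1.trans (map_zero _).symm)
    -- the image in the graded piece
    let g : K →ₗ[A] (K ⧸ (I • (⊤ : Submodule B K))) := (Submodule.mkQ (I • (⊤ : Submodule B K))).restrictScalars A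
    have hgy : 𝔞.subtype.lTensor _ (g.rTensor 𝔞 y) = 0 := by
      rw [← LinearMap.comp_apply, LinearMap.lTensor_comp_rTensor, ← LinearMap.rTensor_comp_lTensor,
        LinearMap.comp_apply, hy0, map_zero]
    have : IsLocalizedModule (Submonoid.powers f)
        (TensorProduct.mk A (Localization.Away f) (K ⧸ (I • (⊤ : Submodule B K))) 1) :=
      (isLocalizedModule_iff_isBaseChange (Submonoid.powers f) (Localization.Away f) _).mpr
        (TensorProduct.isBaseChange A _ (Localization.Away f))
    obtain ⟨_, ⟨j, rfl⟩, hj⟩ := (Groth.Agent.Flat2C.FlatAtCriterion.flat_isLocalizedModule_iff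
      (Submonoid.powers f) (TensorProduct.mk A (Localization.Away f) (K ⧸ (I • (⊤ : Submodule B K))) 1)).mp
        hfl 𝔞 (g.rTensor 𝔞 y) hgy
    -- exactness
    let L : Submodule B K := I • (⊤ : Submodule B K)
    have hex : Function.Exact (L.subtype.restrictScalars A) g := by
      intro z
      change Submodule.Quotient.mk z = 0 ↔ z ∈ Set.range L.subtype
      rw [Submodule.Quotient.mk_eq_zero]
      simp [L]
    have hsurj : Function.Surjective g := Submodule.mkQ_surjective _
    have hex2 := rTensor_exact 𝔞 hex hsurj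
    obtain ⟨z, hz⟩ := (hex2 (f ^ j • y)).mp (by rw [map_smul]; exact hj)
    have hL : ∀ l : L, ((l : K) : M) ∈ (I ^ (n + 1) • (⊤ : Submodule B M)) := by
      rintro ⟨l, hl⟩
      change (l : M) ∈ _
      rw [pow_succ', mul_smul]
      change l ∈ I • (⊤ : Submodule B K) at hl
      induction hl using Submodule.smul_induction_on' with
      | smul b hb x _ => exact Submodule.smul_mem_smul hb x.2
      | add x _ y _ hx hy => exact add_mem hx hy
    let t : L →ₗ[A] ↥(I ^ (n + 1) • (⊤ : Submodule B M)) :=
      { toFun := fun l => ⟨((l : K) : M), hL l⟩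
        map_add' := fun _ _ => rfl
        map_smul' := fun _ _ => rfl }
    refine ⟨j + k, t.rTensor 𝔞 z, ?_⟩
    rw [← LinearMap.comp_apply, ← LinearMap.rTensor_comp]
    have h2 : ((I ^ (n + 1) • (⊤ : Submodule B M)).subtype.restrictScalars A) ∘ₗ t =
      (K.subtype.restrictScalars A) ∘ₗ (L.subtype.restrictScalars A) := rfl
    rw [h2, LinearMap.rTensor_comp, LinearMap.comp_apply, hz, map_smul, hy, smul_smul, pow_add]

theorem range_le (𝔞 : Ideal A) (n : ℕ) (y : ↥(I ^ n • (⊤ : Submodule B M)) ⊗[A] 𝔞) :
    ((I ^ n • (⊤ : Submodule B M)).subtype.restrictScalars A).rTensor 𝔞 y ∈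
      (I ^ n • (⊤ : Submodule B (M ⊗[A] 𝔞))) := by
  induction y with
  | zero => rw [map_zero]; exact zero_mem _
  | add x y hx hy => rw [map_add]; exact add_mem hx hy
  | tmul m a =>
    rw [LinearMap.rTensor_tmul]
    obtain ⟨m, hm⟩ := m
    change m ⊗ₜ[A] a ∈ _
    induction hm using Submodule.smul_induction_on' with
    | smul b hb x _ =>
      rw [← TensorProduct.smul_tmul']
      exact Submodule.smul_mem_smul hb trivial
    | add x _ y _ hx hy => rw [TensorProduct.add_tmul]; exact add_mem hx hy

theorem finite_tensor [Module.Finite B M] (𝔞 : Ideal A) [Module.Finite A 𝔞] :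
    Module.Finite B (M ⊗[A] 𝔞) :=
  Module.Finite.equiv (AlgebraTensorModule.cancelBaseChange A B B M 𝔞)

theorem flatAt_of_flat_gr [IsNoetherianRing A] [IsNoetherianRing B] [Module.Finite B M] (f : A)
    (h : ∀ n : ℕ, Module.Flat A (Localization.Away f ⊗[A]
      (↥(I ^ n • (⊤ : Submodule B M)) ⧸ (I • (⊤ : Submodule B ↥(I ^ n • (⊤ : Submodule B M)))))))
    (q : Ideal B) [q.IsPrime] (hI : I ≤ q) (hf : algebraMap A B f ∉ q) :
    FlatCA.FlatAt A q M := by
  rw [Groth.Agent.Flat2C.FlatAtCriterion.flatAt_iff]
  intro 𝔞 x hx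
  have hfin : Module.Finite B (M ⊗[A] 𝔞) := finite_tensor 𝔞
  let ℓ := LocalizedModule.mkLinearMap q.primeCompl (M ⊗[A] 𝔞)
  suffices h0 : ℓ x = 0 by
    obtain ⟨t, ht⟩ := (IsLocalizedModule.eq_zero_iff q.primeCompl ℓ).mp h0
    exact ⟨t, t.2, ht⟩
  let B' := Localization.AtPrime q
  have hfin' : Module.Finite B' (LocalizedModule q.primeCompl (M ⊗[A] 𝔞)) :=
    Module.Finite.of_isLocalizedModule q.primeCompl ℓ
  have hnoeth : IsNoetherianRing B' := IsLocalization.isNoetherianRing q.primeCompl B' inferInstance
  have key : ∀ n, ℓ x ∈ ((IsLocalRing.maximalIdeal B') ^ n • (⊤ : Submodule B'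
      (LocalizedModule q.primeCompl (M ⊗[A] 𝔞)))) := by
    intro n
    obtain ⟨k, y, hy⟩ := exists_mem_image I f h 𝔞 x hx n
    have h1 := range_le I 𝔞 n y
    rw [hy] at h1
    have h2 : ∀ e ∈ (I ^ n • (⊤ : Submodule B (M ⊗[A] 𝔞))), ℓ e ∈ ((IsLocalRing.maximalIdeal B') ^ n •
        (⊤ : Submodule B' (LocalizedModule q.primeCompl (M ⊗[A] 𝔞)))) := by
      intro e he
      induction he using Submodule.smul_induction_on' with
      | smul b hb x _ =>
        rw [map_smul, ← algebraMap_smul B' b]
        refine Submodule.smul_mem_smul ?_ trivial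
        have h3 : (I ^ n).map (algebraMap B B') ≤ (IsLocalRing.maximalIdeal B') ^ n := by
          rw [Ideal.map_pow]
          refine Ideal.pow_right_mono ?_ n
          rw [← Localization.AtPrime.map_eq_maximalIdeal]
          exact Ideal.map_mono hI
        exact h3 (Ideal.mem_map_of_mem _ hb)
      | add x _ y _ hx hy => rw [map_add]; exact add_mem hx hy
    have h4 := h2 _ h1
    have h5 : f ^ k • x = (algebraMap A B f) ^ k • x := by
      rw [← map_pow, algebraMap_smul]
    rw [h5, map_smul, ← algebraMap_smul B' ((algebraMap A B f) ^ k) (ℓ x)] at h4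
    have hu : IsUnit (algebraMap B B' ((algebraMap A B f) ^ k)) :=
      IsLocalization.map_units B' (⟨(algebraMap A B f) ^ k, q.primeCompl.pow_mem hf k⟩ : q.primeCompl)
    obtain ⟨u, hu⟩ := hu
    have h6 := Submodule.smul_mem _ (↑u⁻¹ : B') h4
    rw [← hu, smul_smul, Units.inv_mul, one_smul] at h6
    exact h6
  have h7 := Ideal.iInf_pow_smul_eq_bot_of_isLocalRing (M := LocalizedModule q.primeCompl (M ⊗[A] 𝔞))
    (IsLocalRing.maximalIdeal B') (Ideal.IsPrime.ne_top inferInstance)
  have h8 : ℓ x ∈ (⨅ i : ℕ, (IsLocalRing.maximalIdeal B') ^ i •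
      (⊤ : Submodule B' (LocalizedModule q.primeCompl (M ⊗[A] 𝔞)))) := by
    rw [Submodule.mem_iInf]; exact key
  rw [h7] at h8
  exact h8

/-- **Generic flatness along a closed subscheme of finite type**, affine version. -/
theorem exists_flatAt [IsDomain A] [IsNoetherianRing A] [IsNoetherianRing B] [Module.Finite B M]
    [Algebra.FiniteType A (B ⧸ I)] :
    ∃ f : A, f ≠ 0 ∧ ∀ (q : Ideal B) [q.IsPrime], I ≤ q → algebraMap A B f ∉ q → FlatCA.FlatAt A q M := by
  have := finite_RM I M
  obtain ⟨f, hf, H⟩ := exists_flat_of_retracts (A := A) I (reesAlgebra I) (RM I M)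
  exact ⟨f, hf, fun q _ hI hfq => flatAt_of_flat_gr I f
    (fun n => H _ (incl I M n) (proj I M n) (proj_incl I M n)) q hI hfq⟩

end main

end K582.GenFlatAlong
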