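import Groth.Agent.Flat2C.FlatSec
import Groth.Agent.Ega1.QcqsPush

/-!
# Flatness over the base of the direct image along an affine morphism
-/

set_option autoImplicit false
universe u

open CategoryTheory CategoryTheory.Limits AlgebraicGeometry TopologicalSpace

namespace K582.PushFlat

open Groth.Agent.Flat2C.FlatSec

variable {X Y S : Scheme.{u}} (f : X ⟶ Y) (q : Y ⟶ S)

theorem appLE_comp_app {V : S.Opens} {W : Y.Opens} (e : W ≤ q ⁻¹ᵁ V) (e' : f ⁻¹ᵁ W ≤ (f ≫ q) ⁻¹ᵁ V) :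
    q.appLE V W e ≫ f.app W = (f ≫ q).appLE V (f ⁻¹ᵁ W) e' := by
  rw [← Scheme.Hom.appLE_eq_app, Scheme.Hom.appLE_comp_appLE]

theorem flatSections_push_iff (F : X.Modules) {V : S.Opens} {W : Y.Opens} (e : W ≤ q ⁻¹ᵁ V)
    (e' : f ⁻¹ᵁ W ≤ (f ≫ q) ⁻¹ᵁ V) :
    FlatSections q ((Scheme.Modules.pushforward f).obj F) e ↔ FlatSections (f ≫ q) F e' := by
  have h : moduleOver q ((Scheme.Modules.pushforward f).obj F) e = moduleOver (f ≫ q) F e' := by
    refine Module.ext' _ _ fun r m => ?_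
    change (f.app W).hom ((q.appLE V W e).hom r) • (show Γ(F, f ⁻¹ᵁ W) from m) =
      ((f ≫ q).appLE V (f ⁻¹ᵁ W) e').hom r • (show Γ(F, f ⁻¹ᵁ W) from m)
    rw [← appLE_comp_app f q e e']
    rfl
  unfold FlatSections
  rw [h]
  exact Iff.rfl

theorem isFlatOver_iff_push [IsAffineHom f] (F : X.Modules) (hF : Coh.IsQCoh F) :
    FlatMod.IsFlatOver (f ≫ q) F ↔ FlatMod.IsFlatOver q ((Scheme.Modules.pushforward f).obj F) := by
  have hP : Coh.IsQCoh ((Scheme.Modules.pushforward f).obj F) :=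
    Groth.Agent.Ega1.QcqsPush.isQCoh_pushforward f F hF
  constructor
  · intro h
    refine isFlatOver_of_cover q _ hP fun y => ?_
    obtain ⟨V, hV, hyV, -⟩ := exists_isAffineOpen_mem_and_subset (x := q y) (U := ⊤) trivial
    obtain ⟨W, hW, hyW, hWV⟩ := exists_isAffineOpen_mem_and_subset (x := y) (U := q ⁻¹ᵁ V) hyV
    have e' : f ⁻¹ᵁ W ≤ (f ≫ q) ⁻¹ᵁ V := fun x hx => hWV hx
    refine ⟨W, V, hW, hV, hWV, hyW, ?_⟩
    rw [flatSections_push_iff f q F hWV e']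
    exact (flat_sections_iff (f ≫ q) F (hW.preimage f) hV e' hF).mpr fun x _ => h x
  · intro h
    refine isFlatOver_of_cover (f ≫ q) F hF fun x => ?_
    obtain ⟨V, hV, hyV, -⟩ := exists_isAffineOpen_mem_and_subset (x := q (f x)) (U := ⊤) trivial
    obtain ⟨W, hW, hyW, hWV⟩ := exists_isAffineOpen_mem_and_subset (x := f x) (U := q ⁻¹ᵁ V) hyV
    have e' : f ⁻¹ᵁ W ≤ (f ≫ q) ⁻¹ᵁ V := fun x hx => hWV hx
    refine ⟨f ⁻¹ᵁ W, V, hW.preimage f, hV, e', hyW, ?_⟩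
    rw [← flatSections_push_iff f q F hWV e']
    exact (flat_sections_iff q _ hW hV hWV hP).mpr fun x _ => h x

end K582.PushFlat
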