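import Groth.Agent.Fga.GqRank972

/-!
# The rank ideal of a finite module whose fibre ranks are bounded
-/

set_option autoImplicit false
universe u

open TensorProduct

namespace K582.RankIdeal

open Groth.Agent.Grpsch.FlatIdeal

/-- `N` is projective of constant rank `r`. -/
def RankCond (r : ℕ) (C : Type u) (N : Type u) [CommRing C] [AddCommGroup N] [Module C N] : Prop :=
  Module.Projective C N ∧ ∀ q : PrimeSpectrum C, Module.rankAtStalk (R := C) N q = r

theorem RankCond.congr {r : ℕ} {C N N' : Type u} [CommRing C] [AddCommGroup N] [Module C N]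
    [AddCommGroup N'] [Module C N'] (e : N ≃ₗ[C] N') (h : RankCond r C N) : RankCond r C N' :=
  ⟨haveI := h.1; Module.Projective.of_equiv e, fun q => by
    rw [← Module.rankAtStalk_eq_of_equiv e]; exact h.2 q⟩

theorem rankCond_congr {r : ℕ} {C N N' : Type u} [CommRing C] [AddCommGroup N] [Module C N]
    [AddCommGroup N'] [Module C N'] (e : N ≃ₗ[C] N') : RankCond r C N ↔ RankCond r C N' :=
  ⟨RankCond.congr e, RankCond.congr e.symm⟩

/-- The rank ideal. -/
noncomputable def J (A M : Type u) [CommRing A] [AddCommGroup M] [Module A M] (r : ℕ) : Ideal A :=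
  sInf {I : Ideal A | RankCond r (A ⧸ I) ((A ⧸ I) ⊗[A] M)}

variable {A M : Type u} [CommRing A] [AddCommGroup M] [Module A M] {r : ℕ}

theorem J_spec [Module.Finite A M] (h : ∀ p : PrimeSpectrum A, fibRank A M p ≤ r)
    (C : Type u) [CommRing C] [Algebra A C] :
    RankCond r C (C ⊗[A] M) ↔ J A M r ≤ RingHom.ker (algebraMap A C) := by
  obtain ⟨I, hI⟩ := Groth.Agent.Fga.GqRank972.exists_rank_ideal r h
  have hJ : J A M r = I := by
    apply le_antisymm
    · refine sInf_le ?_
      change RankCond r (A ⧸ I) ((A ⧸ I) ⊗[A] M)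
      refine (hI (A ⧸ I)).mpr ?_
      rw [Ideal.Quotient.algebraMap_eq, Ideal.mk_ker]
    · refine le_sInf fun K hK => ?_
      have h1 := (hI (A ⧸ K)).mp hK
      rwa [Ideal.Quotient.algebraMap_eq, Ideal.mk_ker] at h1
  rw [hJ]
  exact hI C

/-- Version for an arbitrary base change. -/
theorem J_spec_of_isBaseChange [Module.Finite A M] (h : ∀ p : PrimeSpectrum A, fibRank A M p ≤ r)
    {C N : Type u} [CommRing C] [Algebra A C] [AddCommGroup N] [Module A N] [Module C N] [IsScalarTower A C N]
    (f : M →ₗ[A] N) (hf : IsBaseChange C f) :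
    RankCond r C N ↔ J A M r ≤ RingHom.ker (algebraMap A C) := by
  rw [← J_spec h C]
  exact (rankCond_congr hf.equiv).symm

theorem fibRank_of_isBaseChange {C N : Type u} [CommRing C] [Algebra A C] [AddCommGroup N] [Module A N]
    [Module C N] [IsScalarTower A C N] (f : M →ₗ[A] N) (hf : IsBaseChange C f) (q : PrimeSpectrum C) :
    fibRank C N q = fibRank A M (q.comap (algebraMap A C)) := by
  rw [← fibRank_baseChange]
  exact (fibRank_congr hf.equiv q).symm

theorem J_map [Module.Finite A M] (h : ∀ p : PrimeSpectrum A, fibRank A M p ≤ r)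
    {B N : Type u} [CommRing B] [Algebra A B] [AddCommGroup N] [Module A N] [Module B N] [IsScalarTower A B N]
    (f : M →ₗ[A] N) (hf : IsBaseChange B f) :
    (J A M r).map (algebraMap A B) = J B N r := by
  have hfin : Module.Finite B N := Module.Finite.equiv hf.equiv
  have h' : ∀ p : PrimeSpectrum B, fibRank B N p ≤ r := fun p => by
    rw [fibRank_of_isBaseChange f hf]
    exact h _
  have key : ∀ K : Ideal B, (J A M r).map (algebraMap A B) ≤ K ↔ J B N r ≤ K := by
    intro K
    have h1 := J_spec h' (B ⧸ K)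
    have h2 := J_spec h (B ⧸ K)
    rw [Ideal.Quotient.algebraMap_eq, Ideal.mk_ker] at h1
    rw [← h1, Ideal.map_le_iff_le_comap]
    have h3 : RingHom.ker (algebraMap A (B ⧸ K)) = K.comap (algebraMap A B) := by
      rw [IsScalarTower.algebraMap_eq A B (B ⧸ K), ← RingHom.comap_ker, Ideal.Quotient.algebraMap_eq,
        Ideal.mk_ker]
    rw [← h3, ← h2]
    exact rankCond_congr ((AlgebraTensorModule.cancelBaseChange A B (B ⧸ K) (B ⧸ K) M).symm.trans
      (AlgebraTensorModule.congr (LinearEquiv.refl _ _) hf.equiv))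
  exact le_antisymm ((key _).mpr le_rfl) ((key _).mp le_rfl)

end K582.RankIdeal
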