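import Groth.Agent.FlatMod.K582.RankStrat
import Groth.Agent.Dcoh.FreeSec
import Groth.Agent.Dcoh.StalkRestrict

/-!
# The rank `r` locus of a module locally generated by `r` sections is closed
-/

set_option autoImplicit false
universe u

open CategoryTheory CategoryTheory.Limits AlgebraicGeometry TopologicalSpace TensorProduct

namespace K582.RankStrat

open Groth.Agent.CycB.StalkExact Groth.Agent.Dcoh.StalkMod Groth.Agent.Dcoh.FreeSec

variable {X : Scheme.{u}}

theorem fib_congr {A B : X.Modules} (e : A ≅ B) (x : X) : fib A x = fib B x :=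
  (AlgebraTensorModule.congr (LinearEquiv.refl (IsLocalRing.ResidueField (X.presheaf.stalk x))
    (IsLocalRing.ResidueField (X.presheaf.stalk x))) (stalkLinEquiv e x)).finrank_eq

theorem fib_le_of_epi {A B : X.Modules} (p : A ⟶ B) [Epi p] (x : X)
    [Module.Finite (X.presheaf.stalk x) (A.presheaf.stalk x)] : fib B x ≤ fib A x := by
  have h : Function.Surjective
      ((stalkLin p x).baseChange (IsLocalRing.ResidueField (X.presheaf.stalk x))) :=
    LinearMap.lTensor_surjective _ (stalkLin_surjective p x)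
  exact LinearMap.finrank_le_finrank_of_surjective h

theorem fib_restrict {Y : Scheme.{u}} (j : Y ⟶ X) [IsOpenImmersion j] (M : X.Modules) (hM : Coh.IsQCoh M) (y : Y) :
    fib (M.restrict j) y = fib M (j y) := by
  rw [← fib_pullback M j hM]
  exact fib_congr ((Scheme.Modules.restrictFunctorIsoPullback j).app M) y

theorem isClosedImmersion_of_universal (M : X.Modules) (hM : Coh.IsQCoh M) (hft : CohB1.IsFT M) (r : ℕ)
    (hr : ∀ x, fib M x ≤ r) {Z : Scheme.{u}} (e : Z ⟶ X) [Mono e]
    (h : ∀ (T : Scheme.{u}) (g : T ⟶ X),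
        (∃ g' : T ⟶ Z, g' ≫ e = g) ↔ FlatMod.IsFinLocFreeOfRank r ((Scheme.Modules.pullback g).obj M)) :
    IsClosedImmersion e := by
  let I := rankSheaf hM hft hr
  obtain ⟨a, ha⟩ := (h _ I.subschemeι).mpr ((rankSheaf_le_ker_iff hM hft hr _).mp
    (by rw [I.ker_subschemeι]))
  have h1 := (rankSheaf_le_ker_iff hM hft hr e).mpr ((h _ e).mp ⟨𝟙 _, Category.id_comp _⟩)
  let b := IsClosedImmersion.lift I.subschemeι e (by rw [I.ker_subschemeι]; exact h1)
  have hb : b ≫ I.subschemeι = e := IsClosedImmersion.lift_fac _ _ _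
  have hba : b ≫ a = 𝟙 _ := by rw [← cancel_mono e, Category.assoc, ha, hb, Category.id_comp]
  have hab : a ≫ b = 𝟙 _ := by
    rw [← cancel_mono I.subschemeι, Category.assoc, hb, ha, Category.id_comp]
  have : IsIso b := ⟨a, hba, hab⟩
  rw [← hb]
  infer_instance

theorem fib_freeMod (X : Scheme.{u}) (r : ℕ) (x : X) : fib (FlatMod.freeMod X r) x = r := by
  have := free_stalk_free (X := X) r x
  unfold fib
  rw [Module.finrank_baseChange, ← (stalkFree r x).finrank_eq]
  simp

theorem fib_le_of_generated (M : X.Modules) (hM : Coh.IsQCoh M) (r : ℕ) (x : X) (U : X.Opens) (hx : x ∈ U)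
    (p : FlatMod.freeMod (↑U) r ⟶ M.restrict U.ι) [Epi p] : fib M x ≤ r := by
  let y : (↑U : Scheme.{u}) := ⟨x, hx⟩
  have h1 : fib (M.restrict U.ι) y = fib M x := fib_restrict U.ι M hM y
  have h2 := finite_stalk_free (X := U) r y
  have h3 := fib_le_of_epi p y
  rwa [h1, fib_freeMod] at h3

end K582.RankStrat
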